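import Groth.Agent.GenusOneSSLib.Basic
import Groth.Agent.CurvLib.Euler
import Groth.Agent.VBP1Lib.Tensor
import Groth.Agent.AVThetaLib.Scalar
import Groth.Agent.StabLib.Simple
import Groth.Agent.PnDualLib.Pair
import Groth.Agent.DegPullLib.H0
import Groth.Agent.HilbPolyLib.Basic
import Groth.Agent.HodgePnLib.Vanish
import Groth.Agent.HdgLefLib.Main

/-!
# Endomorphisms of cokernels of matrices between sums of line bundles
-/

set_option autoImplicit false
set_option linter.style.haveILetI false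
set_option linter.unusedSectionVars false
set_option maxHeartbeats 1000000
set_option backward.isDefEq.respectTransparency false
set_option backward.isDefEq.respectTransparency.types false

universe u

open CategoryTheory CategoryTheory.Limits AlgebraicGeometry TopologicalSpace Opposite
open HilbPolyLib (congrLeft congrRight assocIso swapIso unitLeft)

noncomputable section

namespace SimpleCokerLib

attribute [local instance] Abelian.hasFiniteBiproducts

variable {X : Scheme.{u}} {k : Type u} [Field k] [X.Over (Spec (CommRingCat.of k))]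

/-- A scalar endomorphism. -/
abbrev sc (M : X.Modules) (c : k) : M ⟶ M := StabLib.smulHom M (PnDualLib.cst (k := k) c)

theorem sc_natural {M N : X.Modules} (φ : M ⟶ N) (c : k) : sc M c ≫ φ = φ ≫ sc N c := PnDualLib.smulHom_comp φ _

theorem sc_mul (M : X.Modules) (c d : k) : sc M c ≫ sc M d = sc M (c * d) := by
  rw [sc, sc, sc, AVThetaLib.smulHom_mul, mul_comm c d]
  exact congrArg _ (map_mul (Coh.toGlobal (X ↘ Spec (CommRingCat.of k))) d c).symm

theorem sc_one (M : X.Modules) : sc M (1 : k) = 𝟙 M :=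
  (congrArg _ (map_one (Coh.toGlobal (X ↘ Spec (CommRingCat.of k))))).trans (AVThetaLib.smulHom_one M)

theorem sc_add (M : X.Modules) (c d : k) : sc M (c + d) = sc M c + sc M d := by
  refine Scheme.Modules.hom_ext _ _ fun U => ConcreteCategory.hom_ext _ _ fun m => ?_
  show (sc M (c + d)).app U m = (sc M c).app U m + (sc M d).app U m
  rw [StabLib.smulHom_app, StabLib.smulHom_app, StabLib.smulHom_app]
  refine Eq.trans ?_ (add_smul _ _ _)
  refine congrArg (· • m) ?_
  exact (congrArg _ (map_add (Coh.toGlobal (X ↘ Spec (CommRingCat.of k))) c d)).trans (map_add _ _ _)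

/-- Scalars as an additive map. -/
def scHom (M : X.Modules) : k →+ (M ⟶ M) := AddMonoidHom.mk' (sc M) (sc_add M)

theorem sc_zero (M : X.Modules) : sc M (0 : k) = 0 := (scHom (k := k) M).map_zero

theorem toSheaf_sc (M : X.Modules) (c : k) : (SheafOfModules.toSheaf X.ringCatSheaf).map (sc M c) =
    Coh.smulAb M (Coh.toGlobal (X ↘ Spec (CommRingCat.of k)) c) := rfl

theorem eq_sc {M : X.Modules} {φ : M ⟶ M} {c : k} (h : (SheafOfModules.toSheaf X.ringCatSheaf).map φ =
    Coh.smulAb M (Coh.toGlobal (X ↘ Spec (CommRingCat.of k)) c)) : φ = sc M c :=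
  (SheafOfModules.toSheaf X.ringCatSheaf).map_injective h

section Hom

variable {L L' : X.Modules} (e : CohB1.tensorMod L' L ≅ Coh.structureModule X)

include k e in
/-- No maps out of a line bundle. -/
theorem eq_zero_of_subsingleton {N : X.Modules} (h : Subsingleton (Coh.HH X (CohB1.tensorMod L' N) 0))
    (g : L ⟶ N) : g = 0 := by
  haveI := VBP1Lib.isEquivalence_tensor e
  let F := CurvLib.tensorLeft' L'
  refine F.map_injective ?_
  rw [Functor.map_zero]
  refine (cancel_epi e.inv).1 ?_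
  rw [comp_zero]
  exact (GenusOneSSLib.homEquiv (k := k) (F.obj N)).injective (h.elim _ _)

include k e in
/-- Lifting maps out of a line bundle. -/
theorem exists_lift {S : ShortComplex X.Modules} (hS : S.ShortExact) (hL' : PicF.IsInvertible L')
    (h : Subsingleton (Coh.HH X (CohB1.tensorMod L' S.X₁) 1)) (g : L ⟶ S.X₃) : ∃ β : L ⟶ S.X₂, β ≫ S.g = g := by
  haveI := VBP1Lib.isEquivalence_tensor e
  let F := CurvLib.tensorLeft' L'
  have hT : (S.map F).ShortExact := HilbPolyLib.shortExact_tensor hL' hS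
  let x : Coh.HH X (S.map F).X₃ 0 := GenusOneSSLib.homEquiv (k := k) (F.obj S.X₃) (e.inv ≫ F.map g)
  obtain ⟨z, hz⟩ : x ∈ LinearMap.range (CurvLib.hMap (k := k) (S.map F).g 0) := by
    rw [CurvLib.exact₃ hT 0, LinearMap.mem_ker]
    exact h.elim _ _
  obtain ⟨σ, rfl⟩ := (GenusOneSSLib.homEquiv (k := k) (F.obj S.X₂)).surjective z
  have hσ : σ ≫ F.map S.g = e.inv ≫ F.map g := (GenusOneSSLib.homEquiv (k := k) (F.obj S.X₃)).injective
    ((CurvLib.hMap_comp (k := k) σ (F.map S.g) 0 _).trans hz)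
  refine ⟨F.preimage (e.hom ≫ σ), F.map_injective ?_⟩
  rw [Functor.map_comp, Functor.map_preimage, Category.assoc, hσ, Iso.hom_inv_id_assoc]

end Hom

section Sums

variable {L₁ L₂ L' : X.Modules} {P Q : X.Modules} {a b : ℕ}

/-- A twisted finite sum is acyclic when the twisted summand is. -/
theorem sub_tensor_sum {M L T : X.Modules} {r : ℕ} (e : Nonempty (M ≅ ∐ fun _ : Fin r => L))
    (q : ℕ) (h : Subsingleton (Coh.HH X (CohB1.tensorMod T L) q)) :
    Subsingleton (Coh.HH X (CohB1.tensorMod T M) q) := by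
  obtain ⟨e⟩ := e
  let F := CurvLib.tensorLeft' T
  exact HdgLefLib.sub_iso (F.mapIso (e ≪≫ (biproduct.isoCoproduct _).symm) ≪≫ F.mapBiproduct _).symm q
    (HodgePnLib.subsingleton_biproduct _ q fun _ => h)

include k in
/-- No maps between sums of line bundles. -/
theorem hom_sum_eq_zero (hQ : Nonempty (Q ≅ ∐ fun _ : Fin b => L₂))
    (hP : Nonempty (P ≅ ∐ fun _ : Fin a => L₁)) (e : CohB1.tensorMod L' L₂ ≅ Coh.structureModule X)
    (h : Subsingleton (Coh.HH X (CohB1.tensorMod L' L₁) 0)) (g : Q ⟶ P) : g = 0 := by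
  obtain ⟨q⟩ := hQ
  refine (cancel_epi q.inv).1 (Sigma.hom_ext _ _ fun j => ?_)
  rw [comp_zero, comp_zero]
  exact eq_zero_of_subsingleton (k := k) e (sub_tensor_sum hP 0 h) _

include k in
/-- Lifting maps out of a sum of line bundles. -/
theorem lift_sum (hQ : Nonempty (Q ≅ ∐ fun _ : Fin b => L₂)) (e : CohB1.tensorMod L' L₂ ≅ Coh.structureModule X)
    (hL' : PicF.IsInvertible L') {S : ShortComplex X.Modules} (hS : S.ShortExact)
    (h : Subsingleton (Coh.HH X (CohB1.tensorMod L' S.X₁) 1)) (g : Q ⟶ S.X₃) : ∃ β : Q ⟶ S.X₂, β ≫ S.g = g := by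
  obtain ⟨q⟩ := hQ
  choose β hβ using fun j => exists_lift (k := k) e hS hL' h (Sigma.ι (fun _ : Fin b => L₂) j ≫ q.inv ≫ g)
  refine ⟨q.hom ≫ Sigma.desc β, (cancel_epi q.inv).1 ?_⟩
  rw [← Category.assoc, ← Category.assoc, q.inv_hom_id, Category.id_comp]
  refine Sigma.hom_ext _ _ fun j => ?_
  rw [Sigma.ι_desc_assoc, hβ j]

variable [IsAlgClosed k] [IsProper (X ↘ Spec (CommRingCat.of k))] [IsIntegral X]

include k in
/-- Endomorphisms of a line bundle are scalars. -/
theorem exists_scalar {L : X.Modules} (hL : PicF.IsInvertible L) (φ : L ⟶ L) : ∃ c : k, φ = sc L c := by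
  obtain ⟨r, rfl⟩ := AVThetaLib.exists_eq_smulHom hL φ
  haveI := CurvLib.isNoetherian k (X := X)
  haveI := CurvLib.finite_HH (k := k)
    (CurvLib.isCoh_of_isInvertible (CurvLib.isInvertible_structureModule (X := X))) 0
  letI : Algebra k Γ(X, ⊤) := RingHom.toAlgebra (Coh.toGlobal (X ↘ Spec (CommRingCat.of k)))
  let e : Coh.HH X (Coh.structureModule X) 0 ≃ₗ[k] Γ(X, ⊤) :=
    { (DegPullLib.e0 (Coh.structureModule X)) with
      map_smul' := fun r x => (DegPullLib.e0_smul (Coh.structureModule X) _ x).trans rfl }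
  haveI : Module.Finite k Γ(X, ⊤) := Module.Finite.equiv e
  haveI : Nonempty (⊤ : X.Opens) := ⟨⟨genericPoint X, trivial⟩⟩
  haveI : IsDomain Γ(X, ⊤) := IsIntegral.component_integral ⊤
  haveI : Algebra.IsIntegral k Γ(X, ⊤) := Algebra.IsIntegral.of_finite k _
  obtain ⟨c, rfl⟩ := (IsAlgClosed.algebraMap_bijective_of_isIntegral (k := k) (K := Γ(X, ⊤))).2 r
  exact ⟨c, rfl⟩

include k in
/-- **An endomorphism of a sum of copies of a line bundle has finitely many eigenvalues.** -/
theorem exists_spectrum {L : X.Modules} (hL : PicF.IsInvertible L) (hP : Nonempty (P ≅ ∐ fun _ : Fin a => L))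
    (γ : P ⟶ P) : ∃ S : Finset k, ∀ c, c ∉ S → IsIso (γ - sc P c) := by
  classical
  obtain ⟨e₀⟩ := hP
  let B := ⨁ fun _ : Fin a => L
  let e : P ≅ B := e₀ ≪≫ (biproduct.isoCoproduct _).symm
  let δ : B ⟶ B := e.inv ≫ γ ≫ e.hom
  choose M hM using fun i j : Fin a => exists_scalar (k := k) hL
    (biproduct.ι (fun _ : Fin a => L) i ≫ δ ≫ biproduct.π (fun _ : Fin a => L) j)
  let Φ : Matrix (Fin a) (Fin a) k → (B ⟶ B) := fun N => biproduct.matrix fun i j => sc L (N i j)
  have hmul : ∀ N N' : Matrix (Fin a) (Fin a) k, Φ N ≫ Φ N' = Φ (N * N') := fun N N' => by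
    refine biproduct.hom_ext' _ _ fun i => biproduct.hom_ext _ _ fun j => ?_
    simp only [Φ, Category.assoc, biproduct.matrix_π, biproduct.ι_matrix_assoc, biproduct.ι_matrix,
      biproduct.lift_π, biproduct.lift_desc, Matrix.mul_apply]
    refine ((Finset.sum_congr rfl fun l _ => sc_mul L (N i l) (N' l j))).trans ?_
    exact (map_sum (scHom (k := k) L) (fun l => N i l * N' l j) Finset.univ).symm
  have hdiag : ∀ c : k, Φ (Matrix.scalar (Fin a) c) = sc B c := fun c => by
    refine biproduct.hom_ext' _ _ fun i => biproduct.hom_ext _ _ fun j => ?_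
    rw [← sc_natural (biproduct.ι (fun _ : Fin a => L) i) c]
    simp only [Φ, Category.assoc, biproduct.matrix_π, biproduct.ι_desc, Matrix.scalar_apply]
    by_cases h : i = j
    · subst h; simp
    · simp [h, biproduct.ι_π_ne _ h, Matrix.diagonal_apply_ne _ h, sc_zero]
  have hδ : δ = Φ (Matrix.of M) := by
    refine biproduct.hom_ext' _ _ fun i => biproduct.hom_ext _ _ fun j => ?_
    simp only [Φ, Category.assoc, biproduct.matrix_π, biproduct.ι_desc, Matrix.of_apply]
    exact hM i j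
  have hsub : ∀ N N' : Matrix (Fin a) (Fin a) k, Φ N - Φ N' = Φ (N - N') := fun N N' => by
    refine biproduct.hom_ext' _ _ fun i => biproduct.hom_ext _ _ fun j => ?_
    simp only [Preadditive.comp_sub, Preadditive.sub_comp, Φ, Category.assoc, biproduct.matrix_π,
      biproduct.ι_desc, Matrix.sub_apply]
    exact ((scHom (k := k) L).map_sub _ _).symm
  refine ⟨(Matrix.of M).charpoly.roots.toFinset, fun c hc => ?_⟩
  let A := Matrix.of M - Matrix.scalar (Fin a) c
  have hA : IsUnit A.det := by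
    rw [isUnit_iff_ne_zero]
    intro h0
    refine hc (Multiset.mem_toFinset.2 ((Polynomial.mem_roots (Matrix.charpoly_monic _).ne_zero).2 ?_))
    rw [Polynomial.IsRoot, Matrix.eval_charpoly,
      show Matrix.scalar (Fin a) c - Matrix.of M = -A from (neg_sub _ _).symm, Matrix.det_neg, h0, mul_zero]
  have hone : Φ 1 = 𝟙 B := by
    rw [← map_one (Matrix.scalar (Fin a)), hdiag, sc_one]
  haveI : IsIso (Φ A) := ⟨Φ A⁻¹, by rw [hmul, Matrix.mul_nonsing_inv _ hA, hone],
    by rw [hmul, Matrix.nonsing_inv_mul _ hA, hone]⟩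
  have key : γ - sc P c = e.hom ≫ Φ A ≫ e.inv := by
    rw [← hsub, ← hδ, hdiag, Preadditive.sub_comp, Preadditive.comp_sub]
    simp only [δ, Category.assoc, Iso.hom_inv_id, Category.comp_id, Iso.hom_inv_id_assoc]
    rw [sc_natural, Iso.hom_inv_id_assoc]
  rw [key]
  infer_instance

end Sums

section Coker

variable {P Q : X.Modules} (f : P ⟶ Q) [Mono f]

/-- The sequence of a monomorphism. -/
theorem shortExact_coker : (ShortComplex.mk f (cokernel.π f) (cokernel.condition f)).ShortExact :=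
  { exact := ShortComplex.exact_of_g_is_cokernel _ (cokernelIsCokernel f)
    mono_f := inferInstanceAs (Mono f)
    epi_g := inferInstanceAs (Epi (cokernel.π f)) }

/-- **Simplicity of a cokernel.** -/
theorem simple_coker (hlift : ∀ g : Q ⟶ cokernel f, ∃ β : Q ⟶ Q, β ≫ cokernel.π f = g)
    (hscalar : ∀ (β : Q ⟶ Q) (γ : P ⟶ P), γ ≫ f = f ≫ β → ∃ c : k, β = sc Q c)
    (φ : cokernel f ⟶ cokernel f) : ∃ c : k, φ = sc (cokernel f) c := by
  obtain ⟨β, hβ⟩ := hlift (cokernel.π f ≫ φ)
  have hz : (f ≫ β) ≫ cokernel.π f = 0 := by rw [Category.assoc, hβ, cokernel.condition_assoc, zero_comp]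
  have hk := ShortComplex.Exact.lift_f (shortExact_coker f).exact (f ≫ β) hz
  obtain ⟨c, rfl⟩ := hscalar β _ hk
  refine ⟨c, (cancel_epi (cokernel.π f)).1 ?_⟩
  rw [← hβ, sc_natural]

/-- **Isomorphisms of cokernels.** -/
theorem iso_coker (f' : P ⟶ Q) [Mono f'] (hlift : ∀ g : Q ⟶ cokernel f', ∃ β : Q ⟶ Q, β ≫ cokernel.π f' = g)
    (hlift' : ∀ g : Q ⟶ cokernel f, ∃ β : Q ⟶ Q, β ≫ cokernel.π f = g) (hQP : ∀ h : Q ⟶ P, h = 0)
    (φ : cokernel f ≅ cokernel f') : ∃ (β : Q ≅ Q) (γ : P ≅ P), f ≫ β.hom = γ.hom ≫ f' := by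
  obtain ⟨β, hβ⟩ := hlift (cokernel.π f ≫ φ.hom)
  obtain ⟨β', hβ'⟩ := hlift' (cokernel.π f' ≫ φ.inv)
  have inv1 : ∀ (g : P ⟶ Q) [Mono g] (t : Q ⟶ Q), t ≫ cokernel.π g = cokernel.π g → t = 𝟙 Q := fun g _ t ht => by
    have h0 : (t - 𝟙 Q) ≫ cokernel.π g = 0 := by rw [Preadditive.sub_comp, ht, Category.id_comp, sub_self]
    have h1 := ShortComplex.Exact.lift_f (shortExact_coker g).exact (t - 𝟙 Q) h0
    rw [hQP ((shortExact_coker g).exact.lift (t - 𝟙 Q) h0), zero_comp] at h1
    exact (sub_eq_zero.1 h1.symm)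
  have b1 : β ≫ β' = 𝟙 Q := inv1 f _ (by
    rw [Category.assoc, hβ', ← Category.assoc, hβ, Category.assoc, φ.hom_inv_id, Category.comp_id])
  have b2 : β' ≫ β = 𝟙 Q := inv1 f' _ (by
    rw [Category.assoc, hβ, ← Category.assoc, hβ', Category.assoc, φ.inv_hom_id, Category.comp_id])
  have hz : (f ≫ β) ≫ cokernel.π f' = 0 := by rw [Category.assoc, hβ, cokernel.condition_assoc, zero_comp]
  have hz' : (f' ≫ β') ≫ cokernel.π f = 0 := by rw [Category.assoc, hβ', cokernel.condition_assoc, zero_comp]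
  let γ := (shortExact_coker f').exact.lift (f ≫ β) hz
  let γ' := (shortExact_coker f).exact.lift (f' ≫ β') hz'
  have hk : γ ≫ f' = f ≫ β := ShortComplex.Exact.lift_f (shortExact_coker f').exact (f ≫ β) hz
  have hk' : γ' ≫ f = f' ≫ β' := ShortComplex.Exact.lift_f (shortExact_coker f).exact (f' ≫ β') hz'
  refine ⟨⟨β, β', b1, b2⟩, ⟨γ, γ', (cancel_mono f).1 ?_, (cancel_mono f').1 ?_⟩, hk.symm⟩
  · rw [Category.assoc, hk', ← Category.assoc, hk, Category.assoc, b1, Category.comp_id, Category.id_comp]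
  · rw [Category.assoc, hk, ← Category.assoc, hk', Category.assoc, b2, Category.comp_id, Category.id_comp]

end Coker

end SimpleCokerLib
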