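import Groth.Agent.SimpleCokerLib.Main
import Groth.Agent.BlowPtLib.One

/-!
# Cokernels of matrices of linear forms on the blow-up of projective space at points
-/

set_option autoImplicit false
set_option linter.style.haveILetI false
set_option linter.unusedSectionVars false
set_option maxHeartbeats 1000000
set_option backward.isDefEq.respectTransparency false
set_option backward.isDefEq.respectTransparency.types false

universe u

open CategoryTheory CategoryTheory.Limits AlgebraicGeometry TopologicalSpace Opposite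
open HilbPolyLib (congrLeft congrRight assocIso swapIso unitLeft)
open BlowPtLib (pO)

noncomputable section

namespace SimpleCokerLib

variable {k : Type u} [Field k] [IsAlgClosed k] {m s : ℕ} {P : Fin s → ↥(CohB1.ProjSpace (m + 1) k)}
  (hP : Function.Injective P) (hPc : ∀ i, IsClosed ({P i} : Set ↥(CohB1.ProjSpace (m + 1) k)))
  (hZ : IsClosed (Set.range P)) {X : Scheme.{u}} {π : X ⟶ CohB1.ProjSpace (m + 1) k}
  (hπ : BlowUp.IsBlowUp π (Scheme.IdealSheafData.vanishingIdeal ⟨Set.range P, hZ⟩))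
  {a b : ℕ} {P₁ Q₁ : X.Modules} (hP₁ : Nonempty (P₁ ≅ ∐ fun _ : Fin a => pO π (-2)))
  (hQ₁ : Nonempty (Q₁ ≅ ∐ fun _ : Fin b => pO π (-1)))

theorem nonempty_dual_pO : Nonempty (CohB1.tensorMod (pO π 1) (pO π (-1)) ≅ Coh.structureModule X) := by
  obtain ⟨e⟩ := BlowPtLib.nonempty_pb_twist_add π 1 (-1)
  obtain ⟨z⟩ := BlowPtLib.nonempty_pb_twist_zero π
  exact ⟨e ≪≫ eqToIso (congrArg (pO π) (add_neg_cancel (1 : ℤ))) ≪≫ z⟩

include hP hPc hπ hP₁ in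
theorem twist_P_one (hm : 1 ≤ m) : Subsingleton (Coh.HH X (CohB1.tensorMod (pO π 1) P₁) 1) := by
  obtain ⟨e⟩ := BlowPtLib.nonempty_pb_twist_add π 1 (-2)
  exact sub_tensor_sum hP₁ 1 (HdgLefLib.sub_iso e.symm 1
    (BlowPtLib.subsingleton_pO hP hPc hZ hπ hm _ 1 (Or.inl ⟨le_rfl, hm⟩)))

include hπ hP₁ hQ₁ in
theorem hom_Q_P (hm : 1 ≤ m) [X.Over (Spec (CommRingCat.of k))] (h : Q₁ ⟶ P₁) : h = 0 := by
  obtain ⟨d⟩ := nonempty_dual_pO (π := π)
  obtain ⟨e⟩ := BlowPtLib.nonempty_pb_twist_add π 1 (-2)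
  exact hom_sum_eq_zero (k := k) hQ₁ hP₁ d (HdgLefLib.sub_iso e.symm 0
    (BlowPtLib.subsingleton_pO_zero hZ hπ hm _ (by norm_num))) h

include hP hPc hπ hP₁ hQ₁ in
theorem lift_Q (hm : 1 ≤ m) [X.Over (Spec (CommRingCat.of k))] (f : P₁ ⟶ Q₁) [Mono f] (g : Q₁ ⟶ cokernel f) :
    ∃ β : Q₁ ⟶ Q₁, β ≫ cokernel.π f = g := by
  obtain ⟨d⟩ := nonempty_dual_pO (π := π)
  exact lift_sum (k := k) hQ₁ d (BlowPtLib.isInvertible_pO 1) (shortExact_coker f) (twist_P_one hP hPc hZ hπ hP₁ hm) g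

include hP hPc hπ hP₁ hQ₁ in
/-- **Simplicity.** -/
theorem simple (hm : 1 ≤ m) (f : P₁ ⟶ Q₁) [Mono f]
    (hstab : ∀ (β : Q₁ ≅ Q₁) (γ : P₁ ≅ P₁), γ.hom ≫ f = f ≫ β.hom →
      ∃ c : k, (SheafOfModules.toSheaf X.ringCatSheaf).map β.hom =
          Coh.smulAb Q₁ (Coh.toGlobal (π ≫ CohB1.ProjSpace.toSpec (m + 1) k) c) ∧
        (SheafOfModules.toSheaf X.ringCatSheaf).map γ.hom =
          Coh.smulAb P₁ (Coh.toGlobal (π ≫ CohB1.ProjSpace.toSpec (m + 1) k) c))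
    (φ : cokernel f ⟶ cokernel f) : ∃ c : k, (SheafOfModules.toSheaf X.ringCatSheaf).map φ =
      Coh.smulAb (cokernel f) (Coh.toGlobal (π ≫ CohB1.ProjSpace.toSpec (m + 1) k) c) := by
  classical
  letI : X.Over (Spec (CommRingCat.of k)) := ⟨π ≫ CohB1.ProjSpace.toSpec (m + 1) k⟩
  haveI := BlowPtLib.isProper_π hZ hπ
  haveI : IsProper (CohB1.ProjSpace.toSpec (m + 1) k) := ProjDegLib.toSpec_isProper k (m + 1)
  haveI : IsProper (X ↘ Spec (CommRingCat.of k)) :=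
    inferInstanceAs (IsProper (π ≫ CohB1.ProjSpace.toSpec (m + 1) k))
  haveI := BlowPtLib.isIntegral_X hZ hπ
  obtain ⟨c, hc⟩ := simple_coker (k := k) f (lift_Q hP hPc hZ hπ hP₁ hQ₁ hm f) (fun β γ h => by
    obtain ⟨S, hS⟩ := exists_spectrum (k := k) (BlowPtLib.isInvertible_pO (-1)) hQ₁ β
    obtain ⟨S', hS'⟩ := exists_spectrum (k := k) (BlowPtLib.isInvertible_pO (-2)) hP₁ γ
    obtain ⟨c, hc⟩ := Infinite.exists_notMem_finset (S ∪ S')
    rw [Finset.mem_union, not_or] at hc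
    haveI := hS c hc.1
    haveI := hS' c hc.2
    obtain ⟨d, hd, -⟩ := hstab (asIso (β - sc Q₁ c)) (asIso (γ - sc P₁ c)) (by
      simp only [asIso_hom, Preadditive.sub_comp, Preadditive.comp_sub, h, sc_natural])
    refine ⟨d + c, ?_⟩
    rw [sc_add, ← eq_sc (k := k) hd, asIso_hom, sub_add_cancel]) φ
  exact ⟨c, by rw [hc]; exact toSheaf_sc (k := k) _ c⟩

include hP hPc hπ hP₁ hQ₁ in
/-- **Isomorphism classes are orbits.** -/
theorem iso_iff (hm : 1 ≤ m) (f f' : P₁ ⟶ Q₁) [Mono f] [Mono f'] :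
    Nonempty (cokernel f ≅ cokernel f') ↔ ∃ (β : Q₁ ≅ Q₁) (γ : P₁ ≅ P₁), f ≫ β.hom = γ.hom ≫ f' := by
  letI : X.Over (Spec (CommRingCat.of k)) := ⟨π ≫ CohB1.ProjSpace.toSpec (m + 1) k⟩
  exact ⟨fun ⟨e⟩ => iso_coker f f' (lift_Q hP hPc hZ hπ hP₁ hQ₁ hm f') (lift_Q hP hPc hZ hπ hP₁ hQ₁ hm f)
    (hom_Q_P hZ hπ hP₁ hQ₁ hm) e, fun ⟨β, γ, h⟩ => ⟨cokernel.mapIso f f' γ β h⟩⟩

end SimpleCokerLib
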