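import Groth.Agent.SimpleCokerLib.Main
import Groth.Agent.QuadKerLib.Basic
import Groth.Agent.DiagTorLib.Prod
import Groth.Agent.GenusZeroLib.PSpace

/-!
# Cokernels of matrices of linear forms on the quadric
-/

set_option autoImplicit false
set_option linter.style.haveILetI false
set_option linter.unusedSectionVars false
set_option maxHeartbeats 1000000
set_option backward.isDefEq.respectTransparency false
set_option backward.isDefEq.respectTransparency.types false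

universe u

open CategoryTheory CategoryTheory.Limits AlgebraicGeometry TopologicalSpace Opposite
open HilbPolyLib (congrLeft congrRight assocIso swapIso unitLeft)
open QuadKerLib (bi overX)

noncomputable section

namespace SimpleCokerLib

attribute [local instance] QuadKerLib.overX

variable {k : Type u} [Field k] [IsAlgClosed k] {r : ℕ} {P₁ Q₁ Q₂ : (QuadKerLib.X k).Modules}
  (hP₁ : Nonempty (P₁ ≅ ∐ fun _ : Fin r => bi k (-1) (-1)))
  (hQ₁ : Nonempty (Q₁ ≅ ∐ fun _ : Fin r => bi k (-1) 0))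
  (hQ₂ : Nonempty (Q₂ ≅ ∐ fun _ : Fin r => bi k 0 (-1)))

theorem nonempty_dual_bi (a b : ℤ) :
    Nonempty (CohB1.tensorMod (bi k (-a) (-b)) (bi k a b) ≅ Coh.structureModule (QuadKerLib.X k)) := by
  obtain ⟨e⟩ := QuadKerLib.nonempty_bi_add k (-a) (-b) a b
  obtain ⟨z⟩ := QuadKerLib.nonempty_bi_zero k
  exact ⟨e ≪≫ eqToIso (by rw [neg_add_cancel, neg_add_cancel]) ≪≫ z⟩

/-- Vanishing of the twisted sums. -/
theorem sub_bi_sum {M : (QuadKerLib.X k).Modules} {a b : ℤ} (hM : Nonempty (M ≅ ∐ fun _ : Fin r => bi k a b))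
    (c d : ℤ) (q : ℕ) (h : Subsingleton (Coh.HH (QuadKerLib.X k) (bi k (c + a) (d + b)) q)) :
    Subsingleton (Coh.HH (QuadKerLib.X k) (CohB1.tensorMod (bi k c d) M) q) := by
  obtain ⟨e⟩ := QuadKerLib.nonempty_bi_add k c d a b
  exact sub_tensor_sum hM q (HdgLefLib.sub_iso e.symm q h)

theorem hom_bi_sum {M N : (QuadKerLib.X k).Modules} {a b c d : ℤ}
    (hM : Nonempty (M ≅ ∐ fun _ : Fin r => bi k a b)) (hN : Nonempty (N ≅ ∐ fun _ : Fin r => bi k c d))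
    (h : -a + c < 0 ∨ -b + d < 0) (g : M ⟶ N) : g = 0 := by
  obtain ⟨e⟩ := nonempty_dual_bi (k := k) a b
  obtain ⟨e'⟩ := QuadKerLib.nonempty_bi_add k (-a) (-b) c d
  exact hom_sum_eq_zero (k := k) hM hN e (HdgLefLib.sub_iso e'.symm 0 (QuadKerLib.sub0 k _ _ h)) g

include hP₁ hQ₁ hQ₂ in
/-- **Simplicity on the quadric.** -/
theorem simple_quadric (f : P₁ ⟶ Q₁ ⊞ Q₂) [Mono f]
    (hstab : ∀ (β₁ : Q₁ ≅ Q₁) (β₂ : Q₂ ≅ Q₂) (γ : P₁ ≅ P₁), γ.hom ≫ f = f ≫ biprod.map β₁.hom β₂.hom →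
      ∃ c : k, (SheafOfModules.toSheaf _).map β₁.hom = Coh.smulAb Q₁ (Coh.toGlobal (pullback.fst (CohB1.ProjSpace.toSpec 1 k) (CohB1.ProjSpace.toSpec 1 k) ≫ CohB1.ProjSpace.toSpec 1 k) c) ∧
        (SheafOfModules.toSheaf _).map β₂.hom = Coh.smulAb Q₂ (Coh.toGlobal (pullback.fst (CohB1.ProjSpace.toSpec 1 k) (CohB1.ProjSpace.toSpec 1 k) ≫ CohB1.ProjSpace.toSpec 1 k) c) ∧
        (SheafOfModules.toSheaf _).map γ.hom = Coh.smulAb P₁ (Coh.toGlobal (pullback.fst (CohB1.ProjSpace.toSpec 1 k) (CohB1.ProjSpace.toSpec 1 k) ≫ CohB1.ProjSpace.toSpec 1 k) c))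
    (φ : cokernel f ⟶ cokernel f) : ∃ c : k, (SheafOfModules.toSheaf _).map φ =
      Coh.smulAb (cokernel f) (Coh.toGlobal (pullback.fst (CohB1.ProjSpace.toSpec 1 k) (CohB1.ProjSpace.toSpec 1 k) ≫ CohB1.ProjSpace.toSpec 1 k) c) := by
  classical
  haveI : IsIntegral (CohB1.ProjSpace 1 k) := GenusZeroLib.isIntegral_projSpace k 1
  haveI : IsProper (CohB1.ProjSpace.toSpec 1 k) := ProjDegLib.toSpec_isProper k 1
  haveI : IsIntegral (QuadKerLib.X k) := DiagTorLib.isIntegral_pullback _ _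
  haveI := QuadKerLib.isProper_X k
  have hlift : ∀ g : Q₁ ⊞ Q₂ ⟶ cokernel f, ∃ β : Q₁ ⊞ Q₂ ⟶ Q₁ ⊞ Q₂, β ≫ cokernel.π f = g := fun g => by
    obtain ⟨e₁⟩ := nonempty_dual_bi (k := k) (-1) 0
    obtain ⟨e₂⟩ := nonempty_dual_bi (k := k) 0 (-1)
    obtain ⟨b₁, hb₁⟩ := lift_sum (k := k) hQ₁ e₁ (QuadKerLib.inv_bi k _ _) (shortExact_coker f)
      (sub_bi_sum hP₁ _ _ 1 (QuadKerLib.sub1 k _ _ (by omega) (by omega))) (biprod.inl ≫ g)
    obtain ⟨b₂, hb₂⟩ := lift_sum (k := k) hQ₂ e₂ (QuadKerLib.inv_bi k _ _) (shortExact_coker f)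
      (sub_bi_sum hP₁ _ _ 1 (QuadKerLib.sub1 k _ _ (by omega) (by omega))) (biprod.inr ≫ g)
    refine ⟨biprod.desc b₁ b₂, biprod.hom_ext' _ _ ?_ ?_⟩
    · rw [biprod.inl_desc_assoc]; exact hb₁
    · rw [biprod.inr_desc_assoc]; exact hb₂
  obtain ⟨c, hc⟩ := simple_coker (k := k) f hlift (fun β γ h => by
    let b₁ : Q₁ ⟶ Q₁ := biprod.inl ≫ β ≫ biprod.fst
    let b₂ : Q₂ ⟶ Q₂ := biprod.inr ≫ β ≫ biprod.snd
    have hβ : β = biprod.map b₁ b₂ := by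
      refine biprod.hom_ext' _ _ (biprod.hom_ext _ _ ?_ ?_) (biprod.hom_ext _ _ ?_ ?_)
      · simp [b₁]
      · rw [hom_bi_sum hQ₁ hQ₂ (by omega) ((biprod.inl ≫ β) ≫ biprod.snd)]
        simp
      · rw [hom_bi_sum hQ₂ hQ₁ (by omega) ((biprod.inr ≫ β) ≫ biprod.fst)]
        simp
      · simp [b₂]
    obtain ⟨S₁, hS₁⟩ := exists_spectrum (k := k) (QuadKerLib.inv_bi k _ _) hQ₁ b₁
    obtain ⟨S₂, hS₂⟩ := exists_spectrum (k := k) (QuadKerLib.inv_bi k _ _) hQ₂ b₂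
    obtain ⟨S', hS'⟩ := exists_spectrum (k := k) (QuadKerLib.inv_bi k _ _) hP₁ γ
    obtain ⟨c, hc⟩ := Infinite.exists_notMem_finset (S₁ ∪ S₂ ∪ S')
    rw [Finset.mem_union, Finset.mem_union, not_or, not_or] at hc
    haveI := hS₁ c hc.1.1
    haveI := hS₂ c hc.1.2
    haveI := hS' c hc.2
    have hsc : ∀ d : k, biprod.map (sc Q₁ d) (sc Q₂ d) = sc (Q₁ ⊞ Q₂) d := fun d => by
      refine biprod.hom_ext' _ _ ?_ ?_
      · rw [biprod.inl_map, ← sc_natural]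
      · rw [biprod.inr_map, ← sc_natural]
    have hmap : biprod.map (b₁ - sc Q₁ c) (b₂ - sc Q₂ c) = β - sc (Q₁ ⊞ Q₂) c := by
      rw [hβ, ← hsc c]
      refine biprod.hom_ext' _ _ ?_ ?_ <;>
        simp [Preadditive.comp_sub, Preadditive.sub_comp]
    obtain ⟨d, hd₁, hd₂, -⟩ := hstab (asIso (b₁ - sc Q₁ c)) (asIso (b₂ - sc Q₂ c)) (asIso (γ - sc P₁ c)) (by
      simp only [asIso_hom, hmap, Preadditive.sub_comp, Preadditive.comp_sub, h, sc_natural])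
    refine ⟨d + c, ?_⟩
    rw [sc_add, ← hsc d, ← eq_sc (k := k) hd₁, ← eq_sc (k := k) hd₂, asIso_hom, asIso_hom, hmap, sub_add_cancel]) φ
  exact ⟨c, by rw [hc]; exact toSheaf_sc (k := k) _ c⟩

end SimpleCokerLib
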